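import Groth.Agent.SqLiftLib.Glue

/-!
Points of smooth schemes lift along affine nilpotent thickenings.
-/

set_option autoImplicit false
set_option backward.isDefEq.respectTransparency false

noncomputable section

universe u

open CategoryTheory CategoryTheory.Limits MonoidalCategory CartesianMonoidalCategory AlgebraicGeometry CoactBr

namespace Groth.Agent.SqLift

attribute [local instance] CoactBr.braidedAlgSpecOf

variable {R : Type u} [CommRing R] {X : Over (Spec (CommRingCat.of R))}

/-- The closed subscheme of an ideal. -/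
abbrev S₀ (J : Ideal R) : Over (Spec (CommRingCat.of R)) :=
  Over.mk (Spec.map (CommRingCat.ofHom (Ideal.Quotient.mk J)))

/-- The point of the closed subscheme with values in an algebra killed by the ideal. -/
def toS₀ {J : Ideal R} (A : Type u) [CommRing A] [Algebra R A] (h : J ≤ RingHom.ker (algebraMap R A)) :
    sp R A ⟶ S₀ J :=
  Over.homMk (Spec.map (CommRingCat.ofHom (Ideal.Quotient.lift J (algebraMap R A) fun r hr => h hr))) (by
    show Spec.map _ ≫ Spec.map _ = Spec.map (CommRingCat.ofHom (algebraMap R A))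
    rw [← Spec.map_comp, ← CommRingCat.ofHom_comp, Ideal.Quotient.lift_comp_mk])

theorem hom_ext_S₀ {J : Ideal R} {Y : Over (Spec (CommRingCat.of R))} (p q : Y ⟶ S₀ J) : p = q := by
  haveI : IsClosedImmersion (Spec.map (CommRingCat.ofHom (Ideal.Quotient.mk J))) :=
    IsClosedImmersion.spec_of_surjective _ Ideal.Quotient.mk_surjective
  exact Over.OverMorphism.ext ((cancel_mono (Spec.map (CommRingCat.ofHom (Ideal.Quotient.mk J)))).1
    ((Over.w p).trans (Over.w q).symm))

theorem le_ker_mk (J : Ideal R) (A : Type u) [CommRing A] [Algebra R A] :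
    J ≤ RingHom.ker (algebraMap R (A ⧸ J.map (algebraMap R A))) := fun r hr => by
  rw [RingHom.mem_ker, IsScalarTower.algebraMap_apply R A (A ⧸ J.map (algebraMap R A))]
  exact Ideal.Quotient.eq_zero_iff_mem.2 (Ideal.mem_map_of_mem _ hr)

theorem exists_piece [Smooth X.hom] {J : Ideal R} (hJ : J ^ 2 = ⊥) (s₀ : S₀ J ⟶ X) (x : PrimeSpectrum R) :
    ∃ f : R, f ∉ x.asIdeal ∧ ∃ (V : Chart X) (_ : Algebra.FinitePresentation R V.ring)
      (T : V.ring →ₐ[R] Localization.Away f),
      pt (Ideal.Quotient.mkₐ R (J.map (algebraMap R (Localization.Away f)))) ≫ pt T ≫ V.hom =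
        toS₀ _ (le_ker_mk J _) ≫ s₀ := by
  obtain ⟨y, hy⟩ : x ∈ Set.range (PrimeSpectrum.comap (Ideal.Quotient.mk J)) := by
    refine (Set.ext_iff.1 (range_comap_of_surjective _ _ Ideal.Quotient.mk_surjective) x).2
      ((PrimeSpectrum.mem_zeroLocus _ _).2 fun a ha => ?_)
    rw [SetLike.mem_coe, Ideal.mk_ker] at ha
    have : a ^ 2 ∈ (⊥ : Ideal R) := hJ ▸ Ideal.pow_mem_pow ha 2
    exact x.isPrime.mem_of_pow_mem 2 ((Submodule.mem_bot _).1 this ▸ zero_mem _)
  obtain ⟨U, hU, hyU, -⟩ := exists_isAffineOpen_mem_and_subset (X := X.left) (x := s₀.left y) (U := ⊤) trivial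
  have hopen : IsOpen (s₀.left ⁻¹' (U : Set X.left) : Set (PrimeSpectrum (R ⧸ J))) := (s₀.left ⁻¹ᵁ U).2
  obtain ⟨_, ⟨g, rfl⟩, hyg, hgU⟩ :=
    PrimeSpectrum.isTopologicalBasis_basic_opens.exists_subset_of_mem_open (a := y) hyU hopen
  obtain ⟨f, rfl⟩ := Ideal.Quotient.mk_surjective g
  refine ⟨f, fun hfx => hyg (by rw [← hy] at hfx; exact hfx), ?_⟩
  obtain ⟨φ, hφ⟩ := Spec.map_surjective (hU.fromSpec ≫ X.hom)
  letI : Algebra R Γ(X.left, U) := φ.hom.toAlgebra
  haveI hsm : Algebra.Smooth R Γ(X.left, U) := by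
    haveI : IsOpenImmersion hU.fromSpec := IsAffineOpen.isOpenImmersion_fromSpec hU
    have h : Smooth (Spec.map φ) := by
      rw [hφ]
      infer_instance
    exact (HasRingHomProperty.Spec_iff (P := @Smooth)).1 h
  let j : sp R Γ(X.left, U) ⟶ X := Over.homMk hU.fromSpec (by
    show hU.fromSpec ≫ X.hom = Spec.map (CommRingCat.ofHom φ.hom)
    rw [CommRingCat.ofHom_hom, hφ])
  haveI : IsOpenImmersion j.left := IsAffineOpen.isOpenImmersion_fromSpec hU
  let V : Chart X := { ring := Γ(X.left, U), hom := j, isOpen := IsAffineOpen.isOpenImmersion_fromSpec hU }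
  let A := Localization.Away f
  let A' := A ⧸ J.map (algebraMap R A)
  let e : sp R A' ⟶ X := toS₀ _ (le_ker_mk J A) ≫ s₀
  have hsub : Set.range e.left ⊆ Set.range j.left := by
    rintro _ ⟨t, rfl⟩
    show e.left t ∈ Set.range hU.fromSpec
    rw [hU.range_fromSpec]
    refine hgU (a := (toS₀ _ (le_ker_mk J A)).left t) ?_
    show Ideal.Quotient.mk J f ∉ (PrimeSpectrum.comap (Ideal.Quotient.lift J (algebraMap R A') fun r hr =>
      le_ker_mk J A hr) t).asIdeal
    intro hmem
    have h2 : algebraMap R A' f ∈ t.asIdeal := by simpa using hmem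
    have hu : IsUnit (algebraMap R A' f) := by
      rw [IsScalarTower.algebraMap_apply R A A']
      exact (IsLocalization.Away.algebraMap_isUnit f).map _
    exact t.isPrime.ne_top (Ideal.eq_top_of_isUnit_mem _ h2 hu)
  let l := IsOpenImmersion.lift j.left e.left hsub
  have hl : l ≫ j.left = e.left := IsOpenImmersion.lift_fac _ _ _
  let y' : sp R A' ⟶ sp R Γ(X.left, U) := Over.homMk l (by rw [← Over.w j, ← Category.assoc, hl, Over.w])
  obtain ⟨L, hL⟩ := DiagRep.exists_pt y'
  let π : A →ₐ[R] A' := Ideal.Quotient.mkₐ R (J.map (algebraMap R A))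
  have hnil : IsNilpotent (RingHom.ker π) := ⟨2, by
    rw [show RingHom.ker π = J.map (algebraMap R A) from Ideal.Quotient.mkₐ_ker R _, ← Ideal.map_pow, hJ,
      Ideal.map_bot]
    rfl⟩
  let T : Γ(X.left, U) →ₐ[R] A := Algebra.FormallySmooth.liftOfSurjective L π Ideal.Quotient.mk_surjective hnil
  have hT : π.comp T = L := AlgHom.ext fun c => Algebra.FormallySmooth.liftOfSurjective_apply _ _ _ hnil c
  refine ⟨V, hsm.finitePresentation, T, ?_⟩
  show pt π ≫ pt T ≫ j = e
  rw [pt_assoc, hT, ← hL]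
  exact Over.OverMorphism.ext hl

/-- Points of a smooth scheme lift along affine square-zero thickenings. -/
theorem exists_lift_sq [Smooth X.hom] {J : Ideal R} (hJ : J ^ 2 = ⊥) (s₀ : S₀ J ⟶ X) :
    ∃ s : 𝟙_ (Over (Spec (CommRingCat.of R))) ⟶ X, toUnit (S₀ J) ≫ s = s₀ := by
  choose f hfx V hV T hT using exists_piece hJ s₀
  have htop : Ideal.span (Set.range f) = ⊤ := by
    by_contra h
    obtain ⟨m, hm, hle⟩ := Ideal.exists_le_maximal _ h
    exact hfx ⟨m, hm.isPrime⟩ (hle (Ideal.subset_span ⟨_, rfl⟩))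
  obtain ⟨t, hts, htfin⟩ := (Ideal.span_eq_top_iff_finite _).1 htop
  choose x hx using fun g : t => hts g.2
  let idx : Fin t.card → PrimeSpectrum R := fun i => x (t.equivFin.symm i)
  have hspan : Ideal.span (Set.range fun i => f (idx i)) = ⊤ := by
    rw [eq_top_iff, ← htfin]
    refine Ideal.span_mono fun g hg => ⟨t.equivFin ⟨g, hg⟩, ?_⟩
    simp only [idx, Equiv.symm_apply_apply]
    exact hx _
  haveI : ∀ i, Algebra.FinitePresentation R (V (idx i)).ring := fun i => hV _
  have hres : ∀ (i : PrimeSpectrum R) (C : Type u) [CommRing C] [Algebra R C] (α : Localization.Away (f i) →ₐ[R] C)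
      (hC : J ≤ RingHom.ker (algebraMap R C)), pt α ≫ pt (T i) ≫ (V i).hom = toS₀ C hC ≫ s₀ := by
    intro i C _ _ α hC
    let α' : (Localization.Away (f i) ⧸ J.map (algebraMap R (Localization.Away (f i)))) →ₐ[R] C :=
      Ideal.Quotient.liftₐ _ α fun a ha => by
        have : J.map (algebraMap R (Localization.Away (f i))) ≤ RingHom.ker α.toRingHom :=
          Ideal.map_le_iff_le_comap.2 fun r hr => by
            show α (algebraMap R _ r) = 0
            rw [α.commutes]
            exact hC hr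
        exact this ha
    rw [show α = α'.comp (Ideal.Quotient.mkₐ R _) from AlgHom.ext fun _ => rfl, pt_comp, Category.assoc, hT,
      ← Category.assoc, hom_ext_S₀ (pt α' ≫ toS₀ _ _) (toS₀ C hC)]
  obtain ⟨s, hs⟩ := exists_glue hJ (fun i => f (idx i)) hspan (fun i => V (idx i)) (fun i => T (idx i))
    fun i k => by
      show _ ≫ _ = _ ≫ _
      rw [← Category.assoc, ← pt_comp, ← Category.assoc (pt (Ideal.Quotient.mkₐ R _)) (pt (resR _ _)), ← pt_comp,
        hres _ _ _ (le_ker_mk J _), hres _ _ _ (le_ker_mk J _)]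
  refine ⟨s, Over.OverMorphism.ext ?_⟩
  let g : Fin t.card → R ⧸ J := fun i => Ideal.Quotient.mk J (f (idx i))
  have hg : Ideal.span (Set.range g) = ⊤ := by
    rw [show Set.range g = Ideal.Quotient.mk J '' Set.range (fun i => f (idx i)) from Set.range_comp _ _,
      ← Ideal.map_span, hspan, Ideal.map_top]
  refine Scheme.Cover.hom_ext (Scheme.affineOpenCoverOfSpanRangeEqTop (R := CommRingCat.of (R ⧸ J)) g hg).openCover
    _ _ fun i => ?_
  let C := Localization.Away (g i)
  have hC : J ≤ RingHom.ker (algebraMap R C) := fun r hr => by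
    rw [RingHom.mem_ker, IsScalarTower.algebraMap_apply R (R ⧸ J) C]
    show algebraMap (R ⧸ J) C (Ideal.Quotient.mk J r) = 0
    rw [Ideal.Quotient.eq_zero_iff_mem.2 hr, map_zero]
  have hu : IsUnit (algebraMap R C (f (idx i))) := by
    rw [IsScalarTower.algebraMap_apply R (R ⧸ J) C]
    exact IsLocalization.Away.algebraMap_isUnit (g i)
  let α := res (f (idx i)) C hu
  let α' : (Localization.Away (f (idx i)) ⧸ J.map (algebraMap R (Localization.Away (f (idx i))))) →ₐ[R] C :=
    Ideal.Quotient.liftₐ _ α fun a ha => by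
      have : J.map (algebraMap R (Localization.Away (f (idx i)))) ≤ RingHom.ker α.toRingHom :=
        Ideal.map_le_iff_le_comap.2 fun r hr => by
          show α (algebraMap R _ r) = 0
          rw [α.commutes]
          exact hC hr
      exact this ha
  have eα : α'.comp (Ideal.Quotient.mkₐ R _) = α := AlgHom.ext fun _ => rfl
  have h : pt α ≫ toUnit _ ≫ s = pt α ≫ pt (T (idx i)) ≫ (V (idx i)).hom := by
    rw [← eα, pt_comp, Category.assoc, Category.assoc]
    exact congrArg (pt α' ≫ ·) (hs i)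
  rw [hres (idx i) C α hC, ← Category.assoc, toUnit_unique (pt α ≫ toUnit _) (toS₀ C hC ≫ toUnit (S₀ J)),
    Category.assoc] at h
  have h' := h
  have h'' := congrArg CommaMorphism.left h'
  have e : (toS₀ C hC).left = Spec.map (CommRingCat.ofHom (algebraMap (R ⧸ J) C)) := by
    show Spec.map (CommRingCat.ofHom _) = _
    exact congrArg (fun q => Spec.map (CommRingCat.ofHom q)) (Ideal.Quotient.ringHom_ext (RingHom.ext fun r =>
      (IsScalarTower.algebraMap_apply R (R ⧸ J) C r)))
  simp only [Over.comp_left, e] at h''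
  exact h''

end Groth.Agent.SqLift
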