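import Groth.Agent.ConjAvgLib.Push

/-!
Affine combinations of points of a scheme which agree modulo a square-zero ideal.
-/

set_option autoImplicit false
set_option backward.isDefEq.respectTransparency false

noncomputable section


universe u

open CategoryTheory CategoryTheory.Limits MonoidalCategory CartesianMonoidalCategory AlgebraicGeometry CoactBr

namespace Groth.Agent.SqLift

attribute [local instance] CoactBr.braidedAlgSpecOf

variable {R : Type u} [CommRing R]

/-- An affine open of a scheme over a ring. -/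
structure Chart (X : Over (Spec (CommRingCat.of R))) where
  /-- the coordinate ring -/
  ring : Type u
  [cr : CommRing ring]
  [alg : Algebra R ring]
  /-- the inclusion -/
  hom : sp R ring ⟶ X
  isOpen : IsOpenImmersion hom.left

attribute [instance] Chart.cr Chart.alg Chart.isOpen

variable {X : Over (Spec (CommRingCat.of R))} (J : Ideal R) {A : Type u} [CommRing A] [Algebra R A]

theorem mul_eq_zero' (hJ : J ^ 2 = ⊥) {a b : A} (ha : a ∈ J.map (algebraMap R A))
    (hb : b ∈ J.map (algebraMap R A)) : a * b = 0 := by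
  have h := Ideal.mul_mem_mul ha hb
  rwa [← Ideal.map_mul, ← pow_two, hJ, Ideal.map_bot, Submodule.mem_bot] at h

theorem map_mem' {B : Type u} [CommRing B] [Algebra R B] (φ : A →ₐ[R] B) {a : A} (ha : a ∈ J.map (algebraMap R A)) :
    φ a ∈ J.map (algebraMap R B) := by
  have := Ideal.mem_map_of_mem φ.toRingHom ha
  rwa [Ideal.map_map, show φ.toRingHom.comp (algebraMap R A) = algebraMap R B from φ.comp_algebraMap] at this

/-- Two algebra maps agree modulo the ideal. -/
def Near {C : Type u} [CommRing C] [Algebra R C] (φ ψ : C →ₐ[R] A) : Prop :=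
  ∀ c, φ c - ψ c ∈ J.map (algebraMap R A)

/-- Two points agree modulo the ideal. -/
def Cong (x y : sp R A ⟶ X) : Prop :=
  pt (Ideal.Quotient.mkₐ R (J.map (algebraMap R A))) ≫ x = pt (Ideal.Quotient.mkₐ R (J.map (algebraMap R A))) ≫ y

variable {J}

theorem Near.comp {C B : Type u} [CommRing C] [Algebra R C] [CommRing B] [Algebra R B] {φ ψ : C →ₐ[R] A}
    (h : Near J φ ψ) (L : A →ₐ[R] B) : Near J (L.comp φ) (L.comp ψ) := fun c => by
  show L (φ c) - L (ψ c) ∈ _
  rw [← map_sub]
  exact map_mem' J L (h c)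

theorem Cong.comp {B : Type u} [CommRing B] [Algebra R B] {x y : sp R A ⟶ X} (h : Cong J x y) (L : A →ₐ[R] B) :
    Cong J (pt L ≫ x) (pt L ≫ y) := by
  let L' : (A ⧸ J.map (algebraMap R A)) →ₐ[R] (B ⧸ J.map (algebraMap R B)) :=
    Ideal.Quotient.liftₐ _ ((Ideal.Quotient.mkₐ R (J.map (algebraMap R B))).comp L) fun a ha =>
      Ideal.Quotient.eq_zero_iff_mem.2 (map_mem' J L ha)
  have e : (Ideal.Quotient.mkₐ R (J.map (algebraMap R B))).comp L =
      L'.comp (Ideal.Quotient.mkₐ R (J.map (algebraMap R A))) := AlgHom.ext fun _ => rfl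
  show pt (Ideal.Quotient.mkₐ R (J.map (algebraMap R B))) ≫ pt L ≫ x = _ ≫ pt L ≫ y
  rw [← Category.assoc, ← Category.assoc, ← pt_comp, e, pt_comp, Category.assoc, Category.assoc, h]

theorem Cong.symm {x y : sp R A ⟶ X} (h : Cong J x y) : Cong J y x := Eq.symm h

theorem Cong.trans {x y z : sp R A ⟶ X} (h : Cong J x y) (h' : Cong J y z) : Cong J x z := Eq.trans h h'

namespace Chart

variable (V : Chart X)

theorem hom_injective {L L' : V.ring →ₐ[R] A} (h : pt L ≫ V.hom = pt L' ≫ V.hom) : L = L' := by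
  haveI : Mono V.hom := Over.mono_of_mono_left _
  exact pt_injective ((cancel_mono V.hom).1 h)

theorem exists_factor {A' : Type u} [CommRing A'] [Algebra R A'] (π : A →ₐ[R] A') (hπ : Function.Surjective π)
    (hnil : IsNilpotent (RingHom.ker π.toRingHom)) (x : sp R A ⟶ X) (L₀ : V.ring →ₐ[R] A')
    (hx : pt π ≫ x = pt L₀ ≫ V.hom) : ∃ L : V.ring →ₐ[R] A, pt L ≫ V.hom = x := by
  have hsub : Set.range x.left ⊆ Set.range V.hom.left := by
    rintro _ ⟨t, rfl⟩
    obtain ⟨n, hn⟩ := hnil
    have ht : t ∈ Set.range (PrimeSpectrum.comap π.toRingHom) := by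
      refine (Set.ext_iff.1 (range_comap_of_surjective _ π.toRingHom hπ) t).2
        ((PrimeSpectrum.mem_zeroLocus _ _).2 ?_)
      intro a ha
      have : a ^ n = 0 := by
        have := Ideal.pow_mem_pow (show a ∈ RingHom.ker π.toRingHom from ha) n
        rwa [hn] at this
      exact t.isPrime.mem_of_pow_mem n (this ▸ zero_mem _)
    obtain ⟨t', ht'⟩ := ht
    have h1 : x.left t = (pt π ≫ x).left t' := by
      rw [← ht']
      rfl
    rw [h1, hx]
    exact ⟨_, rfl⟩
  let l := IsOpenImmersion.lift V.hom.left x.left hsub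
  have hl : l ≫ V.hom.left = x.left := IsOpenImmersion.lift_fac _ _ _
  let y : sp R A ⟶ sp R V.ring := Over.homMk l (by
    show l ≫ (sp R V.ring).hom = _
    rw [← Over.w V.hom, ← Category.assoc, hl, Over.w])
  obtain ⟨L, hL⟩ := DiagRep.exists_pt y
  exact ⟨L, by rw [← hL]; exact Over.OverMorphism.ext hl⟩

theorem cong_iff {L L' : V.ring →ₐ[R] A} : Cong J (pt L ≫ V.hom) (pt L' ≫ V.hom) ↔ Near J L L' := by
  constructor
  · intro h c
    rw [Cong, ← Category.assoc, ← Category.assoc, ← pt_comp, ← pt_comp] at h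
    exact Ideal.Quotient.eq.1 (DFunLike.congr_fun (V.hom_injective h) c)
  · intro h
    rw [Cong, ← Category.assoc, ← Category.assoc, ← pt_comp, ← pt_comp]
    exact congrArg (fun φ => pt φ ≫ V.hom) (AlgHom.ext fun c => Ideal.Quotient.eq.2 (h c))

theorem exists_of_cong (hJ : J ^ 2 = ⊥) {x : sp R A ⟶ X} (L : V.ring →ₐ[R] A) (h : Cong J x (pt L ≫ V.hom)) :
    ∃ L' : V.ring →ₐ[R] A, pt L' ≫ V.hom = x ∧ Near J L' L := by
  obtain ⟨L', hL'⟩ := V.exists_factor (Ideal.Quotient.mkₐ R (J.map (algebraMap R A))) Ideal.Quotient.mk_surjective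
    ⟨2, by
      rw [show RingHom.ker (Ideal.Quotient.mkₐ R (J.map (algebraMap R A))).toRingHom = J.map (algebraMap R A) from
        Ideal.Quotient.mkₐ_ker R _, ← Ideal.map_pow, hJ, Ideal.map_bot]
      rfl⟩ x
    ((Ideal.Quotient.mkₐ R (J.map (algebraMap R A))).comp L)
    (Eq.trans h ((Category.assoc _ _ _).symm.trans (congrArg (· ≫ V.hom) (pt_comp _ _).symm)))
  exact ⟨L', hL', V.cong_iff.1 (by rw [hL']; exact h)⟩

end Chart

section Comb

variable {ι : Type} [Fintype ι]

variable (J A ι) in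
/-- Tuples congruent modulo the ideal. -/
def tuples : Subalgebra R (Option ι → A) where
  carrier := {v | ∀ j, v (some j) - v none ∈ J.map (algebraMap R A)}
  mul_mem' {v w} hv hw j := by
    have : (v * w) (some j) - (v * w) none =
        (v (some j) - v none) * w (some j) + v none * (w (some j) - w none) := by
      simp only [Pi.mul_apply]; ring
    rw [this]
    exact add_mem (Ideal.mul_mem_right _ _ (hv j)) (Ideal.mul_mem_left _ _ (hw j))
  add_mem' {v w} hv hw j := by
    have : (v + w) (some j) - (v + w) none = (v (some j) - v none) + (w (some j) - w none) := by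
      simp only [Pi.add_apply]; ring
    rw [this]
    exact add_mem (hv j) (hw j)
  algebraMap_mem' r j := by simp [Pi.algebraMap_apply]

/-- The projections. -/
def proj (o : Option ι) : tuples J A ι →ₐ[R] A := (Pi.evalAlgHom R (fun _ : Option ι => A) o).comp (tuples J A ι).val

theorem proj_nil (hJ : J ^ 2 = ⊥) : IsNilpotent (RingHom.ker (proj (J := J) (A := A) (ι := ι) none).toRingHom) := by
  refine ⟨2, le_bot_iff.1 ?_⟩
  rw [pow_two, Ideal.mul_le]
  intro v hv w hw
  have hv₁ : v.1 none = 0 := hv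
  have hw₁ : w.1 none = 0 := hw
  refine (Submodule.mem_bot _).2 (Subtype.ext (funext fun o => ?_))
  cases o with
  | none => simp [hv₁]
  | some j =>
    have a : v.1 (some j) ∈ J.map (algebraMap R A) := by simpa [hv₁] using v.2 j
    have b : w.1 (some j) ∈ J.map (algebraMap R A) := by simpa [hw₁] using w.2 j
    exact mul_eq_zero' J hJ a b

theorem proj_surjective : Function.Surjective (proj (J := J) (A := A) (ι := ι) none) :=
  fun a => ⟨⟨fun _ => a, fun j => by simp⟩, rfl⟩

/-- The combination of a tuple. -/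
def q (hJ : J ^ 2 = ⊥) (lam : ι → A) : tuples J A ι →ₐ[R] A where
  toFun v := v.1 none + ∑ j, lam j * (v.1 (some j) - v.1 none)
  map_one' := by simp
  map_mul' v w := by
    have e : ∀ j, (v * w).1 (some j) - (v * w).1 none =
        v.1 none * (w.1 (some j) - w.1 none) + w.1 none * (v.1 (some j) - v.1 none) := by
      intro j
      have h := mul_eq_zero' J hJ (v.2 j) (w.2 j)
      show v.1 (some j) * w.1 (some j) - v.1 none * w.1 none = _
      linear_combination h
    have h0 : (∑ j, lam j * (v.1 (some j) - v.1 none)) * (∑ j, lam j * (w.1 (some j) - w.1 none)) = 0 :=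
      mul_eq_zero' J hJ (sum_mem fun j _ => Ideal.mul_mem_left _ _ (v.2 j))
        (sum_mem fun j _ => Ideal.mul_mem_left _ _ (w.2 j))
    simp only [e, mul_add, Finset.sum_add_distrib, mul_left_comm (lam _), ← Finset.mul_sum]
    show v.1 none * w.1 none + _ = _
    linear_combination -h0
  map_zero' := by simp
  map_add' v w := by
    have : ∀ j, (v + w).1 (some j) - (v + w).1 none = (v.1 (some j) - v.1 none) + (w.1 (some j) - w.1 none) := by
      intro j
      show v.1 (some j) + w.1 (some j) - (v.1 none + w.1 none) = _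
      ring
    simp only [this, mul_add, Finset.sum_add_distrib]
    show v.1 none + w.1 none + _ = _
    ring
  commutes' r := by simp [Pi.algebraMap_apply]

variable {C : Type u} [CommRing C] [Algebra R C]

/-- The combination of algebra maps. -/
def comb (hJ : J ^ 2 = ⊥) (T : C →ₐ[R] A) (Y : ι → C →ₐ[R] A) (h : ∀ j, Near J (Y j) T) (lam : ι → A) :
    C →ₐ[R] A :=
  (q hJ lam).comp ((Pi.algHom R (fun _ : Option ι => A) fun o => o.elim T Y).codRestrict (tuples J A ι) fun c j => h j c)

theorem comb_apply (hJ : J ^ 2 = ⊥) (T : C →ₐ[R] A) (Y : ι → C →ₐ[R] A) (h : ∀ j, Near J (Y j) T) (lam : ι → A)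
    (c : C) : comb hJ T Y h lam c = T c + ∑ j, lam j * (Y j c - T c) := rfl

theorem near_comb (hJ : J ^ 2 = ⊥) (T : C →ₐ[R] A) (Y : ι → C →ₐ[R] A) (h : ∀ j, Near J (Y j) T) (lam : ι → A) :
    Near J (comb hJ T Y h lam) T := fun c => by
  rw [comb_apply, add_sub_cancel_left]
  exact sum_mem fun j _ => Ideal.mul_mem_left _ _ (h j c)

/-- A point is a combination of points which agree modulo the ideal. -/
def IsComb (hJ : J ^ 2 = ⊥) (t : sp R A ⟶ X) (y : ι → (sp R A ⟶ X)) (lam : ι → A) (w : sp R A ⟶ X) : Prop :=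
  ∃ z : sp R (tuples J A ι) ⟶ X,
    pt (proj none) ≫ z = t ∧ (∀ j, pt (proj (some j)) ≫ z = y j) ∧ pt (q hJ lam) ≫ z = w

theorem isComb_chart (hJ : J ^ 2 = ⊥) (V : Chart X) (T : V.ring →ₐ[R] A) (Y : ι → V.ring →ₐ[R] A)
    (h : ∀ j, Near J (Y j) T) (lam : ι → A) :
    IsComb hJ (pt T ≫ V.hom) (fun j => pt (Y j) ≫ V.hom) lam (pt (comb hJ T Y h lam) ≫ V.hom) := by
  refine ⟨pt ((Pi.algHom R (fun _ : Option ι => A) fun o => o.elim T Y).codRestrict (tuples J A ι)
    fun c j => h j c) ≫ V.hom, ?_, fun j => ?_, ?_⟩ <;> rw [← Category.assoc, ← pt_comp] <;> rfl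

theorem IsComb.eq_comb {hJ : J ^ 2 = ⊥} {t : sp R A ⟶ X} {y : ι → (sp R A ⟶ X)} {lam : ι → A} {w : sp R A ⟶ X}
    (hw : IsComb hJ t y lam w) (V : Chart X) (T : V.ring →ₐ[R] A) (Y : ι → V.ring →ₐ[R] A) (hT : pt T ≫ V.hom = t)
    (hY : ∀ j, pt (Y j) ≫ V.hom = y j) (h : ∀ j, Near J (Y j) T) :
    w = pt (comb hJ T Y h lam) ≫ V.hom := by
  obtain ⟨z, hz, hz', rfl⟩ := hw
  obtain ⟨Z, hZ⟩ := V.exists_factor (A := tuples J A ι) (A' := A) (proj none) proj_surjective (proj_nil hJ) z T
    (hz.trans hT.symm)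
  have e : ∀ o, (proj o).comp Z = o.elim T Y := fun o => V.hom_injective (by
    rw [pt_comp, Category.assoc, hZ]
    cases o with
    | none => exact hz.trans hT.symm
    | some j => exact (hz' j).trans (hY j).symm)
  rw [← hZ, ← Category.assoc, ← pt_comp]
  refine congrArg (fun φ => pt φ ≫ V.hom) (AlgHom.ext fun c => ?_)
  have e₀ : (Z c).1 none = T c := DFunLike.congr_fun (e none) c
  have e₁ : ∀ j, (Z c).1 (some j) = Y j c := fun j => DFunLike.congr_fun (e (some j)) c
  rw [comb_apply, ← e₀]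
  simp only [← e₁]
  rfl

end Comb

end Groth.Agent.SqLift
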