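import Groth.Agent.SqLiftLib.Comb

/-!
Extending differences of algebra maps out of a localisation.
-/

set_option autoImplicit false
set_option backward.isDefEq.respectTransparency false

noncomputable section

universe u

namespace Groth.Agent.SqLift

variable {R : Type u} [CommRing R] {J : Ideal R} {A B : Type u} [CommRing A] [Algebra R A] [CommRing B] [Algebra R B]

/-- The restriction between localisations of a ring at elements. -/
structure IsRes (J : Ideal R) (u : A →ₐ[R] B) (g : R) : Prop where
  exists_ext : ∀ x ∈ J.map (algebraMap R B), ∃ n, ∃ e ∈ J.map (algebraMap R A), u e = algebraMap R B (g ^ n) * x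
  exists_ann : ∀ e, u e = 0 → ∃ n, algebraMap R A (g ^ n) * e = 0

theorem isRes (f g h : R) (hh : h = f * g) [IsLocalization.Away f A] [IsLocalization.Away h B] (u : A →ₐ[R] B) :
    IsRes J u g := by
  subst hh
  constructor
  · intro x hx
    obtain ⟨⟨⟨j, hj⟩, ⟨_, n, rfl⟩⟩, hx⟩ :=
      (IsLocalization.mem_map_algebraMap_iff (Submonoid.powers (f * g)) B).1 hx
    have hf : IsUnit (algebraMap R A f) := IsLocalization.Away.algebraMap_isUnit f
    refine ⟨n, (↑((hf.pow n).unit⁻¹) : A) * algebraMap R A j, Ideal.mul_mem_left _ _ (Ideal.mem_map_of_mem _ hj), ?_⟩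
    have hfB : IsUnit (u (algebraMap R A f ^ n)) := (hf.pow n).map u
    refine hfB.mul_left_cancel ?_
    rw [← map_mul, ← mul_assoc, IsUnit.mul_val_inv, one_mul, u.commutes, ← hx]
    simp only [map_mul, map_pow, u.commutes, mul_pow]
    ring
  · intro e he
    obtain ⟨⟨r, ⟨_, n, rfl⟩⟩, hr⟩ := IsLocalization.surj (Submonoid.powers f) e
    have h0 : algebraMap R B r = 0 := by
      have := congrArg u hr
      rw [map_mul, he, zero_mul, u.commutes] at this
      exact this.symm
    obtain ⟨⟨_, k, rfl⟩, hk⟩ := (IsLocalization.map_eq_zero_iff (Submonoid.powers (f * g)) B r).1 h0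
    refine ⟨k, ?_⟩
    have hf : IsUnit (algebraMap R A f) := IsLocalization.Away.algebraMap_isUnit f
    refine (hf.pow (n + k)).mul_left_cancel ?_
    have hk' : algebraMap R A ((f * g) ^ k) * algebraMap R A r = 0 := by rw [← map_mul, hk, map_zero]
    simp only [map_mul, map_pow, mul_pow, mul_zero] at hr hk' ⊢
    rw [pow_add]
    linear_combination (algebraMap R A f ^ k * algebraMap R A g ^ k) * hr + hk'

variable {C : Type u} [CommRing C] [Algebra R C] {u : A →ₐ[R] B} {g : R}

theorem single_apply (hJ : J ^ 2 = ⊥) {C : Type u} [CommRing C] [Algebra R C] (T T' : C →ₐ[R] A)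
    (h : Near J T' T) (a : A) (c : C) :
    comb hJ T (fun _ : Unit => T') (fun _ => h) (fun _ => a) c = T c + a * (T' c - T c) := by
  rw [comb_apply]
  simp

/-- Differences which vanish after restriction are killed by a power of the element. -/
theorem IsRes.exists_pow_mul_sub (hu : IsRes J u g) [Algebra.FiniteType R C] (hJ : J ^ 2 = ⊥)
    {φ ψ : C →ₐ[R] A} (h : Near J φ ψ) (he : u.comp φ = u.comp ψ) :
    ∃ n, ∀ m ≥ n, ∀ c, algebraMap R A (g ^ m) * (φ c - ψ c) = 0 := by
  classical
  obtain ⟨s, hs⟩ := Algebra.FiniteType.out (R := R) (A := C)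
  have h0 : ∀ c, u (φ c - ψ c) = 0 := fun c => by
    rw [map_sub, sub_eq_zero]
    exact DFunLike.congr_fun he c
  choose n hn using fun c => hu.exists_ann _ (h0 c)
  refine ⟨s.sup n, fun m hm c => ?_⟩
  have h1 : comb hJ ψ (fun _ : Unit => φ) (fun _ => h) (fun _ => algebraMap R A (g ^ m)) = ψ :=
    AlgHom.ext_of_adjoin_eq_top hs fun x hx => by
      obtain ⟨k, rfl⟩ := Nat.exists_eq_add_of_le ((Finset.le_sup (f := n) (Finset.mem_coe.1 hx)).trans hm)
      rw [single_apply, pow_add, map_mul, mul_right_comm, hn x, zero_mul, add_zero]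
  simpa [single_apply] using DFunLike.congr_fun h1 c

/-- A difference on the smaller open extends after multiplication with a power of the element. -/
theorem IsRes.exists_extend (hu : IsRes J u g) [Algebra.FinitePresentation R C] (hJ : J ^ 2 = ⊥) (T : C →ₐ[R] A)
    (T' : C →ₐ[R] B) (h : Near J T' (u.comp T)) :
    ∃ n, ∀ m ≥ n, ∃ Y : C →ₐ[R] A, Near J Y T ∧
      ∀ c, u (Y c) = u (T c) + algebraMap R B (g ^ m) * (T' c - u (T c)) := by
  classical
  obtain ⟨k, π, hπ, hker⟩ := Algebra.FinitePresentation.out (R := R) (A := C)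
  choose n e he hue using fun x : Fin k => hu.exists_ext _ (h (π (MvPolynomial.X x)))
  let N := Finset.univ.sup n
  let Φ : MvPolynomial (Fin k) R →ₐ[R] A := MvPolynomial.aeval fun x =>
    T (π (MvPolynomial.X x)) + algebraMap R A (g ^ (N - n x)) * e x
  have hΦ : Near J Φ (T.comp π) := fun p => by
    have : (Ideal.Quotient.mkₐ R (J.map (algebraMap R A))).comp Φ =
        (Ideal.Quotient.mkₐ R (J.map (algebraMap R A))).comp (T.comp π) := MvPolynomial.algHom_ext fun x => by
      refine Ideal.Quotient.eq.2 ?_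
      show MvPolynomial.aeval _ (MvPolynomial.X x) - T (π (MvPolynomial.X x)) ∈ _
      rw [MvPolynomial.aeval_X, add_sub_cancel_left]
      exact Ideal.mul_mem_left _ _ (he x)
    exact Ideal.Quotient.eq.1 (DFunLike.congr_fun this p)
  have hT' : Near J (T'.comp π) ((u.comp T).comp π) := fun p => h (π p)
  have key : u.comp Φ = comb hJ ((u.comp T).comp π) (fun _ : Unit => T'.comp π) (fun _ => hT')
      (fun _ => algebraMap R B (g ^ N)) := MvPolynomial.algHom_ext fun x => by
    rw [single_apply]
    show u (Φ (MvPolynomial.X x)) = u (T (π (MvPolynomial.X x))) + _ * (T' (π _) - u (T (π _)))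
    rw [MvPolynomial.aeval_X, map_add, map_mul, hue, u.commutes, ← mul_assoc, ← map_mul, ← pow_add,
      Nat.sub_add_cancel (Finset.le_sup (Finset.mem_univ x))]
    rfl
  obtain ⟨s, hs⟩ := hker
  have h0 : ∀ r : MvPolynomial (Fin k) R, π r = 0 → u (Φ r) = 0 := fun r hr => by
    have := DFunLike.congr_fun key r
    rw [single_apply] at this
    simpa [hr] using this
  choose l hl using fun r : MvPolynomial (Fin k) R => show ∃ l, π r = 0 → algebraMap R A (g ^ l) * Φ r = 0 from
    if hr : π r = 0 then (hu.exists_ann _ (h0 r hr)).imp fun _ => fun q _ => q else ⟨0, fun q => absurd q hr⟩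
  refine ⟨N + s.sup l, fun m hm => ?_⟩
  obtain ⟨d, rfl⟩ := Nat.exists_eq_add_of_le hm
  let Ψ : MvPolynomial (Fin k) R →ₐ[R] A :=
    comb hJ (T.comp π) (fun _ : Unit => Φ) (fun _ => hΦ) (fun _ => algebraMap R A (g ^ (s.sup l + d)))
  have hk : RingHom.ker π.toRingHom ≤ RingHom.ker Ψ.toRingHom := by
    rw [← hs, Ideal.span_le]
    intro r hr
    have hr0 : π r = 0 := (hs ▸ Ideal.subset_span hr : r ∈ RingHom.ker π.toRingHom)
    show Ψ r = 0
    obtain ⟨q, hq⟩ := Nat.exists_eq_add_of_le ((Finset.le_sup (f := l) (Finset.mem_coe.1 hr)).trans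
      (Nat.le_add_right (s.sup l) d))
    rw [single_apply, hq, pow_add, map_mul]
    simp only [AlgHom.coe_comp, Function.comp_apply, hr0, map_zero, sub_zero, zero_add]
    rw [mul_right_comm, hl r hr0, zero_mul]
  let Y : C →ₐ[R] A := AlgHom.liftOfSurjective π hπ Ψ hk
  have hY : ∀ p, Y (π p) = Ψ p := fun p => DFunLike.congr_fun (AlgHom.liftOfSurjective_comp π hπ Ψ hk) p
  refine ⟨Y, fun c => ?_, fun c => ?_⟩ <;> obtain ⟨p, rfl⟩ := hπ c <;> rw [hY]
  · exact near_comb hJ _ _ _ _ p
  · have hk' := DFunLike.congr_fun key p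
    rw [single_apply] at hk'
    rw [single_apply, map_add, map_mul, map_sub, u.commutes, show N + s.sup l + d = (s.sup l + d) + N by ring,
      pow_add g (s.sup l + d) N, map_mul, mul_assoc]
    simp only [AlgHom.coe_comp, Function.comp_apply] at hk' ⊢
    rw [hk', add_sub_cancel_left]

end Groth.Agent.SqLift
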