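import Groth.Agent.SqLiftLib.Extend

/-!
Local lifts along an affine square-zero thickening can be corrected to a global one.
-/

set_option autoImplicit false
set_option backward.isDefEq.respectTransparency false

noncomputable section

universe u

open CategoryTheory CategoryTheory.Limits MonoidalCategory CartesianMonoidalCategory AlgebraicGeometry CoactBr

namespace Groth.Agent.SqLift

attribute [local instance] CoactBr.braidedAlgSpecOf

variable {R : Type u} [CommRing R] {J : Ideal R} {X : Over (Spec (CommRingCat.of R))}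

/-- The map out of a localisation at an element into an algebra in which it is invertible. -/
def res (f : R) (A : Type u) [CommRing A] [Algebra R A] (h : IsUnit (algebraMap R A f)) :
    Localization.Away f →ₐ[R] A :=
  IsLocalization.liftAlgHom (M := Submonoid.powers f) (f := Algebra.ofId R A) fun y => by
    obtain ⟨_, n, rfl⟩ := y
    simpa [Algebra.ofId_apply] using h.pow n

theorem hom_ext_away (f : R) {A : Type u} [CommRing A] [Algebra R A] (φ ψ : Localization.Away f →ₐ[R] A) : φ = ψ :=
  (IsLocalization.algHom_subsingleton (Submonoid.powers f)).elim φ ψ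

theorem isUnit_left (f g : R) : IsUnit (algebraMap R (Localization.Away (f * g)) f) := by
  refine isUnit_of_mul_isUnit_left (y := algebraMap R (Localization.Away (f * g)) g) ?_
  rw [← map_mul]
  exact IsLocalization.Away.algebraMap_isUnit _

theorem isUnit_right (f g : R) : IsUnit (algebraMap R (Localization.Away (f * g)) g) := by
  refine isUnit_of_mul_isUnit_right (x := algebraMap R (Localization.Away (f * g)) f) ?_
  rw [← map_mul]
  exact IsLocalization.Away.algebraMap_isUnit _

/-- The restriction to the left factor. -/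
def resL (f g : R) : Localization.Away f →ₐ[R] Localization.Away (f * g) := res f _ (isUnit_left f g)

/-- The restriction to the right factor. -/
def resR (f g : R) : Localization.Away g →ₐ[R] Localization.Away (f * g) := res g _ (isUnit_right f g)

theorem pt_assoc {A B C : Type u} [CommRing A] [Algebra R A] [CommRing B] [Algebra R B] [CommRing C] [Algebra R C]
    (φ : A →ₐ[R] B) (ψ : B →ₐ[R] C) (x : sp R A ⟶ X) : pt ψ ≫ pt φ ≫ x = pt (ψ.comp φ) ≫ x := by
  rw [← Category.assoc, ← pt_comp]

theorem comb_comp {A B C : Type u} [CommRing A] [Algebra R A] [CommRing B] [Algebra R B] [CommRing C] [Algebra R C]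
    {κ : Type} [Fintype κ] (hJ : J ^ 2 = ⊥) (L : A →ₐ[R] B) (T : C →ₐ[R] A) (Y : κ → C →ₐ[R] A)
    (h : ∀ j, Near J (Y j) T) (lam : κ → R) :
    L.comp (comb hJ T Y h fun j => algebraMap R A (lam j)) =
      comb hJ (L.comp T) (fun j => L.comp (Y j)) (fun j => (h j).comp L) fun j => algebraMap R B (lam j) :=
  AlgHom.ext fun c => by
    rw [AlgHom.comp_apply, comb_apply, comb_apply, map_add, map_sum]
    simp [map_mul, map_sub]

theorem exists_compat {ι : Type} [Fintype ι] (hJ : J ^ 2 = ⊥) (f : ι → R) (hf : Ideal.span (Set.range f) = ⊤)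
    (V : ι → Chart X) [∀ i, Algebra.FinitePresentation R (V i).ring]
    (T : ∀ i, (V i).ring →ₐ[R] Localization.Away (f i))
    (hT : ∀ i k, Cong J (pt (resL (f i) (f k)) ≫ pt (T i) ≫ (V i).hom)
      (pt (resR (f i) (f k)) ≫ pt (T k) ≫ (V k).hom)) :
    ∃ σ : ∀ i, sp R (Localization.Away (f i)) ⟶ X, (∀ i, Cong J (σ i) (pt (T i) ≫ (V i).hom)) ∧
      ∀ i k, pt (resL (f i) (f k)) ≫ σ i = pt (resR (f i) (f k)) ≫ σ k := by
  classical
  -- the other lifts in the charts
  have h1 : ∀ i j, ∃ T' : (V i).ring →ₐ[R] Localization.Away (f i * f j),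
      pt T' ≫ (V i).hom = pt (resR (f i) (f j)) ≫ pt (T j) ≫ (V j).hom ∧
        Near J T' ((resL (f i) (f j)).comp (T i)) := fun i j =>
    (V i).exists_of_cong hJ _ ((hT i j).symm.trans (congrArg _ (pt_assoc _ _ _)))
  choose T' hT' hT'n using h1
  have h2 : ∀ i j, ∃ n, ∀ m ≥ n, ∃ Y : (V i).ring →ₐ[R] Localization.Away (f i), Near J Y (T i) ∧
      ∀ c, resL (f i) (f j) (Y c) = resL (f i) (f j) (T i c) +
        algebraMap R _ (f j ^ m) * (T' i j c - resL (f i) (f j) (T i c)) := fun i j =>
    (isRes (J := J) (f i) (f j) (f i * f j) rfl (resL (f i) (f j))).exists_extend hJ (T i) (T' i j) (hT'n i j)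
  choose n hn using h2
  let N := Finset.univ.sup fun p : ι × ι => n p.1 p.2
  have h3 : ∀ i j, n i j ≤ N := fun i j =>
    Finset.le_sup (f := fun p : ι × ι => n p.1 p.2) (Finset.mem_univ (i, j))
  choose Y hYn hY using fun i j => hn i j N (h3 i j)
  -- the extended lifts in another chart
  have h4 : ∀ i k j, ∃ Y' : (V i).ring →ₐ[R] Localization.Away (f i * f k),
      pt Y' ≫ (V i).hom = pt (resR (f i) (f k)) ≫ pt (Y k j) ≫ (V k).hom ∧ Near J Y' (T' i k) := fun i k j =>
    (V i).exists_of_cong hJ _ (((V k).cong_iff.2 (hYn k j)).comp (resR (f i) (f k)) |>.trans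
      (congrArg _ (hT' i k).symm))
  choose Y' hY' hY'n using h4
  have h5 : ∀ i k j, ∃ m, ∀ d ≥ m, ∀ c, algebraMap R (Localization.Away (f i * f k)) (f j ^ d) *
      (Y' i k j c - T' i k c - (resL (f i) (f k) (Y i j c) - resL (f i) (f k) (T i c)) -
        algebraMap R _ (f j ^ N) * (resL (f i) (f k) (T i c) - T' i k c)) = 0 := by
    intro i k j
    let A := Localization.Away (f i * f k)
    let B := Localization.Away (f i * f k * f j)
    have ui : IsUnit (algebraMap R B (f i)) := by
      refine isUnit_of_mul_isUnit_left (y := algebraMap R B (f k * f j)) ?_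
      rw [← map_mul, ← mul_assoc]
      exact IsLocalization.Away.algebraMap_isUnit _
    have uk : IsUnit (algebraMap R B (f k)) := by
      refine isUnit_of_mul_isUnit_left (y := algebraMap R B (f i * f j)) ?_
      rw [← map_mul, ← mul_assoc, mul_comm (f k)]
      exact IsLocalization.Away.algebraMap_isUnit _
    have uj : IsUnit (algebraMap R B (f j)) := isUnit_right (f i * f k) (f j)
    let u : A →ₐ[R] B := resL (f i * f k) (f j)
    let lij : Localization.Away (f i * f j) →ₐ[R] B := res _ B (by rw [map_mul]; exact ui.mul uj)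
    let lkj : Localization.Away (f k * f j) →ₐ[R] B := res _ B (by rw [map_mul]; exact uk.mul uj)
    let Ti := (resL (f i) (f k)).comp (T i)
    let Yi := (resL (f i) (f k)).comp (Y i j)
    have nTi : Near J Ti (T' i k) := fun c => by simpa [Ti] using neg_mem (hT'n i k c)
    have nYi : Near J Yi (T' i k) := fun c => by
      have := add_mem ((hYn i j).comp (resL (f i) (f k)) c) (nTi c)
      simpa [Yi, Ti] using this
    let W := comb hJ (T' i k) ![Yi, Ti] (fun o => by fin_cases o <;> [exact nYi; exact nTi])
      ![1, algebraMap R A (f j ^ N) - 1]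
    have nW : Near J (Y' i k j) W := fun c => by
      have := sub_mem (hY'n i k j c) (near_comb hJ (T' i k) ![Yi, Ti]
        (fun o => by fin_cases o <;> [exact nYi; exact nTi]) ![1, algebraMap R A (f j ^ N) - 1] c)
      simpa [W] using this
    have hW : ∀ c, W c = T' i k c + (Yi c - T' i k c) +
        (algebraMap R A (f j ^ N) - 1) * (Ti c - T' i k c) := fun c => by
      show comb hJ _ _ _ _ c = _
      rw [comb_apply, Fin.sum_univ_two]
      simp only [Matrix.cons_val_zero, Matrix.cons_val_one, one_mul]
      ring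
    have eqB : ∀ c, u (Y' i k j c) = u (T' i k c) +
        algebraMap R B (f j ^ N) * (lij (T' i j c) - u (T' i k c)) := by
      have nB : Near J (lkj.comp (T' k j)) ((res (f k) B uk).comp (T k)) := fun c => by
        have := (hT'n k j).comp lkj c
        rwa [← AlgHom.comp_assoc, hom_ext_away (f k) (lkj.comp (resL (f k) (f j))) (res (f k) B uk)] at this
      have e0 : (res (f k) B uk).comp (Y k j) = comb hJ ((res (f k) B uk).comp (T k))
          (fun _ : Unit => lkj.comp (T' k j)) (fun _ => nB) (fun _ => algebraMap R B (f j ^ N)) :=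
        AlgHom.ext fun c => by
          rw [single_apply, hom_ext_away (f k) (res (f k) B uk) (lkj.comp (resL (f k) (f j)))]
          simp only [AlgHom.comp_apply]
          rw [hY k j c, map_add, map_mul, map_sub, AlgHom.commutes]
      have e1 : pt ((res (f k) B uk).comp (Y k j)) ≫ (V k).hom = pt (u.comp (Y' i k j)) ≫ (V i).hom := by
        rw [pt_comp (φ := Y' i k j), Category.assoc, hY', pt_assoc, pt_assoc]
        exact congrArg (fun φ => pt φ ≫ (V k).hom) (congrArg (fun φ => AlgHom.comp φ (Y k j))
          (hom_ext_away (f k) _ _))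
      have e2 := isComb_chart hJ (V k) ((res (f k) B uk).comp (T k)) (fun _ : Unit => lkj.comp (T' k j))
        (fun _ => nB) (fun _ => algebraMap R B (f j ^ N))
      rw [← e0, e1] at e2
      have nB' : Near J (lij.comp (T' i j)) (u.comp (T' i k)) := fun c => by
        have a1 := (hT'n i j).comp lij c
        have a2 := (hT'n i k).comp u c
        rw [← AlgHom.comp_assoc, hom_ext_away (f i) (lij.comp (resL (f i) (f j))) (res (f i) B ui)] at a1
        rw [← AlgHom.comp_assoc, hom_ext_away (f i) (u.comp (resL (f i) (f k))) (res (f i) B ui)] at a2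
        have := sub_mem a1 a2
        simpa using this
      have e3 := e2.eq_comb (V i) (u.comp (T' i k)) (fun _ : Unit => lij.comp (T' i j))
        (by
          rw [pt_comp, Category.assoc, hT', pt_assoc, pt_assoc]
          exact congrArg (fun φ => pt φ ≫ (V k).hom) (congrArg (fun φ => AlgHom.comp φ (T k))
            (hom_ext_away (f k) _ _)))
        (fun _ => by
          rw [pt_comp, Category.assoc, hT', pt_comp (φ := T' k j), Category.assoc, hT', pt_assoc, pt_assoc,
            pt_assoc, pt_assoc]
          exact congrArg (fun φ => pt φ ≫ (V j).hom) (congrArg (fun φ => AlgHom.comp φ (T j))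
            (hom_ext_away (f j) (lij.comp (resR (f i) (f j))) (lkj.comp (resR (f k) (f j))))))
        (fun _ => nB')
      intro c
      exact (DFunLike.congr_fun ((V i).hom_injective e3) c).trans (single_apply hJ _ _ nB' _ c)
    have heq : u.comp (Y' i k j) = u.comp W := AlgHom.ext fun c => by
      rw [AlgHom.comp_apply, AlgHom.comp_apply, eqB c, hW]
      have a1 : u (Yi c) = u (Ti c) + algebraMap R B (f j ^ N) * (lij (T' i j c) - u (Ti c)) := by
        show (u.comp (resL (f i) (f k))) (Y i j c) = (u.comp (resL (f i) (f k))) (T i c) +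
          _ * (_ - (u.comp (resL (f i) (f k))) (T i c))
        rw [hom_ext_away (f i) (u.comp (resL (f i) (f k))) (lij.comp (resL (f i) (f j)))]
        simp only [AlgHom.comp_apply]
        rw [hY i j c, map_add, map_mul, map_sub, AlgHom.commutes]
      simp only [map_add, map_mul, map_sub, map_one, AlgHom.commutes]
      rw [a1]
      ring
    obtain ⟨m, hm⟩ := (isRes (J := J) (f i * f k) (f j) (f i * f k * f j) rfl u).exists_pow_mul_sub hJ nW heq
    refine ⟨m, fun d hd c => ?_⟩
    have := hm d hd c
    rw [hW] at this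
    simp only [Yi, Ti, AlgHom.comp_apply, A] at this ⊢
    linear_combination this
  choose m hm using h5
  let M := Finset.univ.sup fun p : ι × ι × ι => m p.1 p.2.1 p.2.2
  have h6 : ∀ i k j, m i k j ≤ M := fun i k j =>
    Finset.le_sup (f := fun p : ι × ι × ι => m p.1 p.2.1 p.2.2) (Finset.mem_univ (i, k, j))
  obtain ⟨a, ha⟩ : ∃ a : ι → R, ∑ j, a j * f j ^ (M + N) = 1 := by
    refine Ideal.mem_span_range_iff_exists_fun.1 ?_
    have := Ideal.span_pow_eq_top _ hf (M + N)
    rw [← Set.range_comp] at this
    exact this ▸ trivial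
  let lam : ι → R := fun j => a j * f j ^ M
  let s : ∀ i, (V i).ring →ₐ[R] Localization.Away (f i) := fun i =>
    comb hJ (T i) (Y i) (hYn i) fun j => algebraMap R _ (lam j)
  refine ⟨fun i => pt (s i) ≫ (V i).hom, fun i => (V i).cong_iff.2 (near_comb hJ _ _ _ _), fun i k => ?_⟩
  show pt (resL (f i) (f k)) ≫ pt (s i) ≫ (V i).hom = pt (resR (f i) (f k)) ≫ pt (s k) ≫ (V k).hom
  rw [pt_assoc, pt_assoc, comb_comp, comb_comp]
  have e2 := isComb_chart hJ (V k) ((resR (f i) (f k)).comp (T k)) (fun j => (resR (f i) (f k)).comp (Y k j))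
    (fun j => (hYn k j).comp _) fun j => algebraMap R _ (lam j)
  rw [e2.eq_comb (V i) (T' i k) (Y' i k) ((hT' i k).trans (pt_assoc _ _ _))
    (fun j => (hY' i k j).trans (pt_assoc _ _ _)) (hY'n i k)]
  refine congrArg (fun φ => pt φ ≫ (V i).hom) (AlgHom.ext fun c => ?_)
  rw [comb_apply, comb_apply]
  have hsum : (∑ j, algebraMap R (Localization.Away (f i * f k)) (lam j) * algebraMap R _ (f j ^ N)) = 1 := by
    rw [← map_one (algebraMap R _), ← ha, map_sum]
    exact Finset.sum_congr rfl fun j _ => by rw [← map_mul, pow_add, ← mul_assoc]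
  have key : ∀ j, algebraMap R (Localization.Away (f i * f k)) (lam j) * (Y' i k j c - T' i k c) =
      algebraMap R _ (lam j) * (resL (f i) (f k) (Y i j c) - resL (f i) (f k) (T i c)) +
        algebraMap R _ (lam j) * algebraMap R _ (f j ^ N) * (resL (f i) (f k) (T i c) - T' i k c) := fun j => by
    have := hm i k j M (h6 i k j) c
    simp only [lam, map_mul]
    linear_combination (algebraMap R (Localization.Away (f i * f k)) (a j)) * this
  simp only [key, Finset.sum_add_distrib, ← Finset.sum_mul, hsum, AlgHom.comp_apply]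
  ring

/-- Local lifts of a point along a square-zero thickening of an affine scheme give a global one. -/
theorem exists_glue {ι : Type} [Fintype ι] (hJ : J ^ 2 = ⊥) (f : ι → R) (hf : Ideal.span (Set.range f) = ⊤)
    (V : ι → Chart X) [∀ i, Algebra.FinitePresentation R (V i).ring]
    (T : ∀ i, (V i).ring →ₐ[R] Localization.Away (f i))
    (hT : ∀ i k, Cong J (pt (resL (f i) (f k)) ≫ pt (T i) ≫ (V i).hom)
      (pt (resR (f i) (f k)) ≫ pt (T k) ≫ (V k).hom)) :
    ∃ s : 𝟙_ (Over (Spec (CommRingCat.of R))) ⟶ X,
      ∀ i, Cong J (toUnit (sp R (Localization.Away (f i))) ≫ s) (pt (T i) ≫ (V i).hom) := by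
  obtain ⟨σ, hσ, hcompat⟩ := exists_compat hJ f hf V T hT
  let 𝒰 := (Scheme.affineOpenCoverOfSpanRangeEqTop (R := CommRingCat.of R) f hf).openCover
  have hG : ∀ (i k : ι) (Q : Scheme.{u}) (a : Q ⟶ (sp R (Localization.Away (f i))).left)
      (b : Q ⟶ (sp R (Localization.Away (f k))).left),
      a ≫ (sp R (Localization.Away (f i))).hom = b ≫ (sp R (Localization.Away (f k))).hom →
      a ≫ (σ i).left = b ≫ (σ k).left := by
    intro i k Q a b hab
    refine Scheme.Cover.hom_ext Q.affineCover _ _ fun q => ?_
    haveI : IsAffine (Q.affineCover.X q) := inferInstance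
    refine (cancel_epi (Q.affineCover.X q).isoSpec.inv).1 ?_
    let C : Type u := Γ(Q.affineCover.X q, ⊤)
    let c : Spec (CommRingCat.of C) ⟶ Q := (Q.affineCover.X q).isoSpec.inv ≫ Q.affineCover.f q
    obtain ⟨φ, hφ⟩ := Spec.map_surjective ((c ≫ a) ≫ (sp R (Localization.Away (f i))).hom)
    letI : Algebra R C := φ.hom.toAlgebra
    have hC : (sp R C).hom = (c ≫ a) ≫ (sp R (Localization.Away (f i))).hom := by
      show Spec.map (CommRingCat.ofHom φ.hom) = _
      rw [CommRingCat.ofHom_hom, hφ]
    obtain ⟨α, hα⟩ := DiagRep.exists_pt (Over.homMk (c ≫ a) hC.symm : sp R C ⟶ sp R (Localization.Away (f i)))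
    obtain ⟨β, hβ⟩ := DiagRep.exists_pt (Over.homMk (c ≫ b) (((Category.assoc c b _).trans
      ((congrArg (c ≫ ·) hab).symm.trans (Category.assoc c a _).symm)).trans hC.symm) :
        sp R C ⟶ sp R (Localization.Away (f k)))
    have u1 : IsUnit (algebraMap R C (f i * f k)) := by
      rw [map_mul, ← α.commutes, ← β.commutes]
      exact ((IsLocalization.Away.algebraMap_isUnit (f i)).map α).mul
        ((IsLocalization.Away.algebraMap_isUnit (f k)).map β)
    have h := congrArg (pt (res (f i * f k) C u1) ≫ ·) (hcompat i k)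
    simp only [pt_assoc] at h
    rw [hom_ext_away (f i) (AlgHom.comp _ (resL (f i) (f k))) α,
      hom_ext_away (f k) (AlgHom.comp _ (resR (f i) (f k))) β, ← hα, ← hβ] at h
    have h' : (c ≫ a) ≫ (σ i).left = (c ≫ b) ≫ (σ k).left := congrArg CommaMorphism.left h
    simpa only [c, Category.assoc] using h'
  let g : Spec (CommRingCat.of R) ⟶ X.left := Scheme.Cover.glueMorphisms 𝒰 (fun i => (σ i).left) fun i k =>
    hG i k (pullback (𝒰.f i) (𝒰.f k)) (pullback.fst _ _) (pullback.snd _ _) pullback.condition
  have hg : ∀ i, (sp R (Localization.Away (f i))).hom ≫ g = (σ i).left := fun i =>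
    Scheme.Cover.ι_glueMorphisms 𝒰 _ _ i
  refine ⟨Over.homMk g (Scheme.Cover.hom_ext 𝒰 _ _ fun i => ?_), fun i => ?_⟩
  · show (sp R (Localization.Away (f i))).hom ≫ g ≫ X.hom = (sp R (Localization.Away (f i))).hom ≫ 𝟙 _
    rw [← Category.assoc, hg, Category.comp_id]
    exact Over.w (σ i)
  · refine Eq.trans (congrArg _ (Over.OverMorphism.ext ?_)) (hσ i)
    show (toUnit (sp R (Localization.Away (f i)))).left ≫ g = (σ i).left
    rw [show (toUnit (sp R (Localization.Away (f i)))).left = (sp R (Localization.Away (f i))).hom from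
      (Category.comp_id _).symm.trans (Over.w (toUnit _)), hg]

end Groth.Agent.SqLift
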